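import Mathlib
import Cfsg.Agent.Helper15.PSp.Core
import Cfsg.Agent.Helper64.SpBlk.Main
import Cfsg.Agent.Helper62.StCG2

/-!
# `Sp_{2n}(F)` as the universal completion of the Blok–Hoffman amalgam (S3713): definitions

`F` is ANY field here (no finiteness).  The abstract data is a *chain* `α i : Sp₄(K) →* H`
(`i + 1 < n`; think of `α i` as the `Sp₄` on the hyperbolic pairs `i, i + 1`).
-/

set_option autoImplicit false

namespace Cfsg.Agent.Helper1.SpAm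

open Matrix Cfsg.Agent.Helper96.StC Cfsg.Agent.Helper96.StN Cfsg.Agent.Helper29.StCM
  Cfsg.Agent.Helper96.StemSLTwo Cfsg.Agent.Helper96.StPres Cfsg.Agent.Helper9.Sp4P
  Cfsg.Agent.Helper15.PSp Cfsg.Agent.Helper64.SpBlk

universe u v

variable {K : Type u} [Field K] {H : Type v} [Group H]

/-- `Sp_{2n}(K)` -/
abbrev SpN (n : ℕ) (K : Type u) [Field K] := Matrix.symplecticGroup (Fin n) K

variable (K) in
/-- the long root `SL₂` of `Sp₄(K)` on the hyperbolic pair `1` -/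
noncomputable def i1 : SL2 K →* Sp4 K := Cfsg.Agent.Helper84.PSp.sl2 (1 : Fin 2)

/-- the embedding `Fin 2 ↪ Fin n` attached to an ordered pair of distinct indices -/
def e2 {n : ℕ} (i j : Fin n) (hij : i ≠ j) : Fin 2 ↪ Fin n :=
  ⟨![i, j], by
    intro a b h
    fin_cases a <;> fin_cases b <;> simp_all⟩

@[simp] theorem e2_zero {n : ℕ} (i j : Fin n) (hij : i ≠ j) : e2 i j hij 0 = i := rfl
@[simp] theorem e2_one {n : ℕ} (i j : Fin n) (hij : i ≠ j) : e2 i j hij 1 = j := rfl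

/-- the `Sp₄` on the hyperbolic pairs `i, j` of `Sp_{2n}` -/
def pr {n : ℕ} (i j : Fin n) (hij : i ≠ j) : Sp4 K →* SpN n K := blk (e2 i j hij)

/-- the `Sp₄` on the adjacent hyperbolic pairs `i, i + 1` of `Sp_{2n}` -/
def adj {n : ℕ} (i : ℕ) (hi : i + 1 < n) : Sp4 K →* SpN n K :=
  pr ⟨i, by omega⟩ ⟨i + 1, hi⟩ (by intro h; simp [Fin.ext_iff] at h)

/-- the short root element `x_{ε₀+ε₁}(t)` of `Sp₄(K)` -/
def cE (t : K) : Sp4 K := spT (Sum.inl 0) (Sum.inr 1) t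

/-- the short root element `x_{ε₀-ε₁}(t)` of `Sp₄(K)` -/
def rE (t : K) : Sp4 K := spT (Sum.inl 0) (Sum.inl 1) t

/-- the conditions on a chain `α i : Sp₄(K) →* H`, `i + 1 < n` -/
structure Chain (n : ℕ) (α : ℕ → (Sp4 K →* H)) : Prop where
  link : ∀ i, i + 2 < n → ∀ g : SL2 K, α i (i1 K g) = α (i + 1) (i0 K g)
  far0 : ∀ i j, i + 1 < n → j + 1 < n → j ≠ i → j ≠ i + 1 → ∀ (g : Sp4 K) (g' : SL2 K),
    Commute (α i g) (α j (i0 K g'))
  far1 : ∀ i j, i + 1 < n → j + 1 < n → j + 1 ≠ i → j ≠ i → ∀ (g : Sp4 K) (g' : SL2 K),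
    Commute (α i g) (α j (i1 K g'))
  cc : ∀ i j, i + 1 < n → j + 1 < n → ∀ t u : K, Commute (α i (cE t)) (α j (cE u))

/-- `x` fixes the basis vectors `e_j`, `f_j` -/
def Fixes {n : ℕ} (x : SpN n K) (j : Fin n) : Prop :=
  x.1 *ᵥ Pi.single (Sum.inl j) (1 : K) = Pi.single (Sum.inl j) (1 : K) ∧
    x.1 *ᵥ Pi.single (Sum.inr j) (1 : K) = Pi.single (Sum.inr j) (1 : K)

/-- the embedding `Sp_{2l} → Sp_{2(l+1)}` on the first `l` hyperbolic pairs -/
def up (l : ℕ) : SpN l K →* SpN (l + 1) K := blk (Fin.castSuccEmb : Fin l ↪ Fin (l + 1))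

end Cfsg.Agent.Helper1.SpAm
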