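import Mathlib
import Cfsg.Agent.Helper96.StC.Generic
import Cfsg.Agent.Helper96.StC.Defs

/-!
# S3713 block G: multiplicative tori as a hypothesis (any field)

`HdMul X` replaces the use of `[Fintype K]` (through `MonoData.rankOneHom`) in
`Cfsg.Agent.Helper96.StC.Generic`: the lemmas `Hd_mul` ... `conj_mem_Hsub` of that file are
re-proved here for any field from `MonoData X σ c` and `HdMul X`.
-/

set_option autoImplicit false

namespace Cfsg.Agent.Helper1.SpAm

open Matrix Cfsg.Agent.Helper96.StN Cfsg.Agent.Helper96.StPres Cfsg.Agent.Helper96.StC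

universe u v w

variable {K : Type u} [Field K] {D : Type v} [Group D] {ι : Type w}

/-- the tori `h_{pq}` are multiplicative -/
def HdMul (X : ι → ι → K → D) : Prop :=
  ∀ p q, p ≠ q → ∀ t u : K, t ≠ 0 → u ≠ 0 → Hd X p q (t * u) = Hd X p q t * Hd X p q u

/-- the long root tori `h_{p, -p}` are multiplicative -/
def LongMul {ι : Type w} (X : ι ⊕ ι → ι ⊕ ι → K → D) : Prop :=
  ∀ p : ι ⊕ ι, ∀ t u : K, t ≠ 0 → u ≠ 0 →
    Hd X p (bar p) (t * u) = Hd X p (bar p) t * Hd X p (bar p) u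

namespace GenM

variable {X : ι → ι → K → D} {σ : ι → ι → Equiv.Perm ι} {c : ι → ι → K → ι → K}
  (h : MonoData X σ c) (hH : HdMul X)

include hH in
theorem Hd_mul {i j : ι} (hij : i ≠ j) {t u : K} (ht : t ≠ 0) (hu : u ≠ 0) :
    Hd X i j (t * u) = Hd X i j t * Hd X i j u := hH i j hij t u ht hu

include hH in
theorem Hd_inv {i j : ι} (hij : i ≠ j) {t : K} (ht : t ≠ 0) :
    (Hd X i j t)⁻¹ = Hd X i j t⁻¹ := by
  rw [inv_eq_iff_mul_eq_one, ← Hd_mul hH hij ht (inv_ne_zero ht), mul_inv_cancel₀ ht]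
  unfold Hd
  exact mul_inv_cancel _

include h hH in
theorem Hd_swap {i j : ι} (hij : i ≠ j) {t : K} (ht : t ≠ 0) :
    Hd X j i t = (Hd X i j t)⁻¹ := by
  rw [h.Hd_swap_aux hij ht]
  have h1 : W X i j (-t⁻¹) = Hd X i j (-t⁻¹) * W X i j 1 := by unfold Hd; group
  have h2 : W X i j (-1) = Hd X i j (-1) * W X i j 1 := by unfold Hd; group
  rw [h1, h2]
  have e : Hd X i j (-t⁻¹) * W X i j 1 * (Hd X i j (-1) * W X i j 1)⁻¹ =
      Hd X i j (-t⁻¹) * (Hd X i j (-1))⁻¹ := by group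
  rw [e, Hd_inv hH hij ht, Hd_inv hH hij (neg_ne_zero.mpr one_ne_zero),
    ← Hd_mul hH hij (neg_ne_zero.mpr (inv_ne_zero ht))
      (inv_ne_zero (neg_ne_zero.mpr one_ne_zero))]
  congr 1
  field_simp

include hH in
/-- `w_ij(a) w_ij(b)⁻¹ = h_ij(a / b)` -/
theorem W_mul_W_inv {i j : ι} (hij : i ≠ j) {a b : K} (ha : a ≠ 0) (hb : b ≠ 0) :
    W X i j a * (W X i j b)⁻¹ = Hd X i j (a * b⁻¹) := by
  rw [W_eq_Hd_mul' i j a, W_eq_Hd_mul' i j b, _root_.mul_inv_rev, mul_assoc, mul_inv_cancel_left,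
    Hd_inv hH hij hb, ← Hd_mul hH hij ha (inv_ne_zero hb)]

include hH in
/-- a monomial element conjugates `h_kl(u)` to `h_(πk)(πl)(u)` -/
theorem conj_Hd {g : D} {π : Equiv.Perm ι} {pp : ι → K} (hm : IsMono X g π pp)
    {k l : ι} (hkl : k ≠ l) {u : K} (hu : u ≠ 0) :
    g * Hd X k l u * g⁻¹ = Hd X (π k) (π l) u := by
  have e : g * Hd X k l u * g⁻¹ = (g * W X k l u * g⁻¹) * (g * W X k l 1 * g⁻¹)⁻¹ := by
    unfold Hd; group
  have hc : pp k * (pp l)⁻¹ ≠ 0 := mul_ne_zero (hm.1 k) (inv_ne_zero (hm.1 l))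
  have hkl' : π k ≠ π l := fun e => hkl (π.injective e)
  rw [e, isMono_conj_W hm hkl, isMono_conj_W hm hkl, W_mul_W_inv hH hkl' (mul_ne_zero hc hu)
    (mul_ne_zero hc one_ne_zero)]
  congr 1
  have h1 := hm.1 k; have h2 := hm.1 l
  field_simp

include h hH in
theorem Hd_commute {i j k l : ι} (hij : i ≠ j) (hkl : k ≠ l) {t u : K} (ht : t ≠ 0)
    (hu : u ≠ 0) : Commute (Hd X i j t) (Hd X k l u) := by
  have h' := conj_Hd hH (h.Hd_isMono hij ht) hkl hu
  rw [Equiv.Perm.one_apply, Equiv.Perm.one_apply] at h'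
  exact mul_inv_eq_iff_eq_mul.mp h'

include h hH in
/-- the torus subgroup is commutative -/
theorem Hsub_commute {a b : D} (ha : a ∈ Hsub X) (hb : b ∈ Hsub X) : Commute a b := by
  have key : ∀ a ∈ Hsub X, ∀ k l, k ≠ l → ∀ u : K, u ≠ 0 → Commute a (Hd X k l u) := by
    intro a ha k l hkl u hu
    induction ha using Subgroup.closure_induction with
    | mem g hg =>
      obtain ⟨i, j, hij, t, ht, rfl⟩ := hg
      exact Hd_commute h hH hij hkl ht hu
    | one => exact Commute.one_left _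
    | mul x y _ _ hx hy => exact hx.mul_left hy
    | inv x _ hx => exact hx.inv_left
  induction hb using Subgroup.closure_induction with
  | mem g hg =>
    obtain ⟨k, l, hkl, u, hu, rfl⟩ := hg
    exact key a ha k l hkl u hu
  | one => exact Commute.one_right _
  | mul x y _ _ hx hy => exact hx.mul_right hy
  | inv x _ hx => exact hx.inv_right

include h hH in
/-- `N` normalizes `H` -/
theorem conj_mem_Hsub {n : D} (hn : n ∈ Nsub X) {a : D} (ha : a ∈ Hsub X) :
    n * a * n⁻¹ ∈ Hsub X := by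
  obtain ⟨π, pp, hm⟩ := h.Nsub_isMono hn
  induction ha using Subgroup.closure_induction with
  | mem g hg =>
    obtain ⟨i, j, hij, t, ht, rfl⟩ := hg
    rw [conj_Hd hH hm hij ht]
    exact Subgroup.subset_closure ⟨_, _, fun e => hij (π.injective e), t, ht, rfl⟩
  | one => simp
  | mul x y _ _ hx hy =>
    have e : n * (x * y) * n⁻¹ = (n * x * n⁻¹) * (n * y * n⁻¹) := by group
    rw [e]; exact mul_mem hx hy
  | inv x _ hx =>
    have e : n * x⁻¹ * n⁻¹ = (n * x * n⁻¹)⁻¹ := by group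
    rw [e]; exact inv_mem hx

end GenM

end Cfsg.Agent.Helper1.SpAm
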