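import Mathlib
import Cfsg.Agent.Helper1.SpAm.Defs
import Cfsg.Agent.Helper1.SpAm.GDefs
import Cfsg.Agent.Helper96.StC.Section

/-!
# S3713 block G, piece (GHOM), core (helper42 for helper1's farm #15716): (GSEC) and (GLONG) as hypotheses

A family satisfying the Steinberg relations of type `C_m` with multiplicative long root tori is the
image of the root elements under a homomorphism from `Sp_{2m}(K)`: apply (GSEC) to `H × Sp_{2m}(K)`.
-/

set_option autoImplicit false

namespace Cfsg.Agent.Helper1.SpAm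

open Matrix Cfsg.Agent.Helper96.StC Cfsg.Agent.Helper96.StN Cfsg.Agent.Helper29.StCM

universe u v

variable {K : Type u} [Field K] {D : Type v} [Group D]


/-- the Steinberg relations hold componentwise in a product -/
theorem GHOM_spRel_prod {ι : Type*} {H₁ : Type*} {H₂ : Type*} [Group H₁] [Group H₂]
    {X : ι ⊕ ι → ι ⊕ ι → K → H₁} {Y : ι ⊕ ι → ι ⊕ ι → K → H₂} (hX : SpRel X) (hY : SpRel Y) :
    SpRel (fun a b t => ((X a b t, Y a b t) : H₁ × H₂)) := by
  refine ⟨?_, ?_, ?_, ?_, ?_, ?_⟩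
  · intro p q hpq hq t
    exact Prod.ext (hX.sym p q hpq hq t) (hY.sym p q hpq hq t)
  · intro p q hpq t u
    exact Prod.ext (hX.add p q hpq t u) (hY.add p q hpq t u)
  · intro p q r s h1 h2 h3 h4 h5 h6 t u
    exact Prod.ext (hX.comm p q r s h1 h2 h3 h4 h5 h6 t u) (hY.comm p q r s h1 h2 h3 h4 h5 h6 t u)
  · intro p q s h1 h2 h3 h4 h5 h6 t u
    exact Prod.ext (hX.mul p q s h1 h2 h3 h4 h5 h6 t u) (hY.mul p q s h1 h2 h3 h4 h5 h6 t u)
  · intro p q h1 h2 t u
    exact Prod.ext (hX.r5 p q h1 h2 t u) (hY.r5 p q h1 h2 t u)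
  · intro p q h1 h2 t u
    exact Prod.ext (hX.r6 p q h1 h2 t u) (hY.r6 p q h1 h2 t u)

/-- the tori of a product family are the products of the tori -/
theorem GHOM_Hd_prod {ι : Type*} {H₁ : Type*} {H₂ : Type*} [Group H₁] [Group H₂]
    (X : ι → ι → K → H₁) (Y : ι → ι → K → H₂) (p q : ι) (t : K) :
    Hd (fun a b t => ((X a b t, Y a b t) : H₁ × H₂)) p q t = (Hd X p q t, Hd Y p q t) := rfl

/-- multiplicativity of the long root tori holds componentwise in a product -/
theorem GHOM_longMul_prod {ι : Type*} {H₁ : Type*} {H₂ : Type*} [Group H₁] [Group H₂]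
    {X : ι ⊕ ι → ι ⊕ ι → K → H₁} {Y : ι ⊕ ι → ι ⊕ ι → K → H₂} (hX : LongMul X) (hY : LongMul Y) :
    LongMul (fun a b t => ((X a b t, Y a b t) : H₁ × H₂)) := by
  intro p t u ht hu
  rw [GHOM_Hd_prod, GHOM_Hd_prod, GHOM_Hd_prod, hX p t u ht hu, hY p t u ht hu]
  rfl

/-- (GHOM) with (GSEC) for `H × Sp_{2m}(K)` and (GLONG) as explicit hypotheses -/
theorem exists_hom_of_spRel_of {m : ℕ} {H : Type v} [Group H]
    (hsec : ∀ (p : H × symplecticGroup (Fin m) K →* symplecticGroup (Fin m) K)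
      (Z : Fin m ⊕ Fin m → Fin m ⊕ Fin m → K → H × symplecticGroup (Fin m) K), SpRel Z →
      LongMul Z → (∀ a b, a ≠ b → ∀ t, p (Z a b t) = spT a b t) →
      ∃ s : symplecticGroup (Fin m) K →* H × symplecticGroup (Fin m) K,
        p.comp s = MonoidHom.id _ ∧ ∀ a b, a ≠ b → ∀ t, s (spT a b t) = Z a b t)
    (hlong : LongMul (fun (p q : Fin m ⊕ Fin m) (t : K) =>
      (spT p q t : symplecticGroup (Fin m) K)))
    {X : Fin m ⊕ Fin m → Fin m ⊕ Fin m → K → H} (hX : SpRel X) (hL : LongMul X) :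
    ∃ Φ : symplecticGroup (Fin m) K →* H, ∀ p q, p ≠ q → ∀ t, Φ (spT p q t) = X p q t := by
  obtain ⟨s, -, hs⟩ := hsec
    (MonoidHom.snd H (symplecticGroup (Fin m) K))
    (fun a b t => ((X a b t, spT a b t) : H × symplecticGroup (Fin m) K))
    (GHOM_spRel_prod hX spT_spRel) (GHOM_longMul_prod hL hlong)
    (fun a b _ t => rfl)
  refine ⟨(MonoidHom.fst H (symplecticGroup (Fin m) K)).comp s, ?_⟩
  intro p q hpq t
  rw [MonoidHom.comp_apply, hs p q hpq t]
  rfl

end Cfsg.Agent.Helper1.SpAm
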