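import Mathlib
import Cfsg.Agent.Helper1.SpAm.Defs
import Cfsg.Agent.Helper1.SpAm.GDefs
import Cfsg.Agent.Helper29.StCM
import Cfsg.Agent.Helper81.StCT

/-!
# S3713 block G, piece (GLONG): the long root tori of `Sp_{2m}(K)` are multiplicative

`h_{p,-p}(t)` is the diagonal matrix with `t` at `p`, `t⁻¹` at `-p` (the `2 × 2` block computations
`blk_mul`, `W_mat`, `H_mat` of `Cfsg.Agent.Helper81.StCT`).
-/

set_option autoImplicit false

namespace Cfsg.Agent.Helper1.SpAm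

open Matrix Cfsg.Agent.Helper96.StC Cfsg.Agent.Helper96.StN Cfsg.Agent.Helper29.StCM
open Cfsg.Agent.Helper81.StCT

universe u v

variable {K : Type u} [Field K] {D : Type v} [Group D]

/-- the matrix of `w_{p,-p}(s)` in `Sp_{2m}(K)` -/
theorem GLONG_W_coe {m : ℕ} (p : Fin m ⊕ Fin m) {s : K} (hs : s ≠ 0) :
    (W (fun (p q : Fin m ⊕ Fin m) (t : K) => (spT p q t : symplecticGroup (Fin m) K))
      p (bar p) s).1 = blk p (bar p) 0 s (-s⁻¹) 0 := by
  have hpb : p ≠ bar p := (bar_ne p).symm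
  unfold W
  rw [Submonoid.coe_mul, Submonoid.coe_mul, spT_coe hpb, spT_coe hpb.symm]
  unfold spM
  rw [if_pos rfl, if_pos (bar_bar p).symm]
  exact W_mat hpb hs

/-- the matrix of `h_{p,-p}(t)` in `Sp_{2m}(K)` -/
theorem GLONG_Hd_coe {m : ℕ} (p : Fin m ⊕ Fin m) {t : K} (ht : t ≠ 0) :
    (Hd (fun (p q : Fin m ⊕ Fin m) (t : K) => (spT p q t : symplecticGroup (Fin m) K))
      p (bar p) t).1 = blk p (bar p) t 0 0 t⁻¹ := by
  have hpb : p ≠ bar p := (bar_ne p).symm
  have h1 : (-1 : K) ≠ 0 := neg_ne_zero.mpr one_ne_zero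
  have hinv : (W (fun (p q : Fin m ⊕ Fin m) (t : K) => (spT p q t : symplecticGroup (Fin m) K))
      p (bar p) 1)⁻¹ =
      W (fun (p q : Fin m ⊕ Fin m) (t : K) => (spT p q t : symplecticGroup (Fin m) K))
        p (bar p) (-1) := by
    apply inv_eq_of_mul_eq_one_right
    apply Subtype.ext
    rw [Submonoid.coe_mul, GLONG_W_coe p one_ne_zero, GLONG_W_coe p h1, blk_mul hpb]
    show _ = (1 : Matrix (Fin m ⊕ Fin m) (Fin m ⊕ Fin m) K)
    unfold blk
    simp
  unfold Hd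
  rw [hinv, Submonoid.coe_mul, GLONG_W_coe p ht, GLONG_W_coe p h1]
  exact H_mat hpb ht

/-- (GLONG) the long root tori of `Sp_{2m}(K)` are multiplicative -/
theorem longMul_spT {m : ℕ} :
    LongMul (fun (p q : Fin m ⊕ Fin m) (t : K) => (spT p q t : symplecticGroup (Fin m) K)) := by
  intro p t u ht hu
  have hpb : p ≠ bar p := (bar_ne p).symm
  apply Subtype.ext
  rw [Submonoid.coe_mul, GLONG_Hd_coe p (mul_ne_zero ht hu), GLONG_Hd_coe p ht, GLONG_Hd_coe p hu,
    blk_mul hpb]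
  congr 1
  · ring
  · ring
  · ring
  · rw [mul_inv]
    ring

end Cfsg.Agent.Helper1.SpAm
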