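import Mathlib
import Cfsg.Agent.Helper1.SpAm.Defs
import Cfsg.Agent.Helper1.SpAm.GDefs
import Cfsg.Agent.Helper68.StCN2a
import Cfsg.Agent.Helper67.HyperN1

/-!
# S3713 block G, piece (GN2): an element of `N` whose image is upper triangular lies in `H`, over
any field (copy of `Cfsg.Agent.Helper68.StCN2a.mem_Hsub_of_upper_of` / `StCN2.mem_Hsub_of_upper`
with `HdMul X` in place of `[Fintype K]`)
-/

set_option autoImplicit false

namespace Cfsg.Agent.Helper1.SpAm

open Matrix Cfsg.Agent.Helper96.StC Cfsg.Agent.Helper96.StN Cfsg.Agent.Helper68.StCN2a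

universe u v

variable {K : Type u} [Field K] {D : Type v} [Group D]

theorem GN2_hsub_normal {m : ℕ} {X : Fin m ⊕ Fin m → Fin m ⊕ Fin m → K → D}
    (hM : MonoData X reflPerm cw) (hH : HdMul X) :
    ((Hsub X).subgroupOf (Nsub X)).Normal := by
  refine ⟨fun h hh g => ?_⟩
  rw [Subgroup.mem_subgroupOf] at hh ⊢
  exact GenM.conj_mem_Hsub hM hH g.2 hh

theorem GN2_mem_Hsub_of_upper_of {m : ℕ} {X : Fin m ⊕ Fin m → Fin m ⊕ Fin m → K → D}
    (hN1 : HyperInj.{v}) (hX : SpRel X)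
    (hM : MonoData X reflPerm cw) (hH : HdMul X)
    (φ : D →* Matrix.symplecticGroup (Fin m) K)
    (hφ : ∀ p q, p ≠ q → ∀ t, (φ (X p q t)).1 = spM p q t)
    (n : D) (hn : n ∈ Nsub X) (hup : ∀ r k, rk k < rk r → (φ n).1 r k = 0) : n ∈ Hsub X := by
  classical
  have hnormal : ((Hsub X).subgroupOf (Nsub X)).Normal := GN2_hsub_normal hM hH
  have hWmem : ∀ p q : Fin m ⊕ Fin m, p ≠ q → W X p q (1 : K) ∈ Nsub X := fun p q h =>
    Subgroup.subset_closure ⟨p, q, h, 1, one_ne_zero, rfl⟩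
  have hHdmem : ∀ p q : Fin m ⊕ Fin m, p ≠ q → ∀ t : K, t ≠ 0 → Hd X p q t ∈ Hsub X :=
    fun p q h t ht => Subgroup.subset_closure ⟨p, q, h, t, ht, rfl⟩
  -- the representatives of the reflections in `N`
  let w : Fin m ⊕ Fin m → Fin m ⊕ Fin m → ↥(Nsub X) := fun p q =>
    if h : p ≠ q then ⟨W X p q 1, hWmem p q h⟩ else 1
  have hw : ∀ p q (h : p ≠ q), ((w p q : ↥(Nsub X)) : D) = W X p q 1 := by
    intro p q h
    simp only [w, dif_pos h]
  let s : Fin m ⊕ Fin m → Fin m ⊕ Fin m → ↥(Nsub X) ⧸ (Hsub X).subgroupOf (Nsub X) :=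
    fun p q => QuotientGroup.mk (w p q)
  -- the homomorphism induced on the quotient
  have hT : (Hsub X).subgroupOf (Nsub X) ≤ (rho hM φ hφ).ker := by
    intro h hh
    rw [MonoidHom.mem_ker]
    obtain ⟨pp, hpp⟩ := hM.Hsub_isMono (Subgroup.mem_subgroupOf.mp hh)
    exact rho_eq_of_isMono hM φ hφ h hpp (fun k => rfl)
  let ρ' : ↥(Nsub X) ⧸ (Hsub X).subgroupOf (Nsub X) →* Equiv.Perm (Fin m ⊕ Fin m) :=
    QuotientGroup.lift _ (rho hM φ hφ) hT
  have hinj : Function.Injective ρ' := by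
    refine hN1 s ρ' ?_ ?_ ?_ ?_ ?_ ?_
    · -- `ρ (s p q) = reflPerm p q`
      intro p q hpq
      change rho hM φ hφ (w p q) = reflPerm p q
      apply rho_eq_of_isMono hM φ hφ (w p q) (pp := cw p q 1)
      · rw [hw p q hpq]
        exact hM.mono p q hpq 1 one_ne_zero
      · exact fun k => reflPerm_bar p q k
    · -- symmetry
      intro p q hpq
      refine (mk_eq_of_eq_mul rfl (hHdmem q p hpq.symm (-1) (neg_ne_zero.mpr one_ne_zero))
        ?_).symm
      rw [hw p q hpq, hw q p hpq.symm, ← W_eq_Hd_mul', hM.W_swap hpq one_ne_zero, inv_one]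
    · -- bar
      intro p q hpq
      by_cases hq : q = bar p
      · subst hq
        rw [bar_bar]
      · have hne : bar q ≠ bar p := fun e => hpq (bar_injective e).symm
        have hc : -(eps K p q * 1) ≠ 0 :=
          neg_ne_zero.mpr (mul_ne_zero (eps_ne_zero p q) one_ne_zero)
        refine mk_eq_of_eq_mul rfl (hHdmem p q hpq _ hc) ?_
        rw [hw p q hpq, hw _ _ hne, ← W_eq_Hd_mul', W_bar hX hpq hq one_ne_zero]
    · -- squares
      intro p q hpq
      change (QuotientGroup.mk (w p q) : ↥(Nsub X) ⧸ (Hsub X).subgroupOf (Nsub X)) *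
        QuotientGroup.mk (w p q) = 1
      rw [← QuotientGroup.mk_mul, QuotientGroup.eq_one_iff, Subgroup.mem_subgroupOf,
        Subgroup.coe_mul, hw p q hpq]
      have e : W X p q (1 : K) * W X p q 1 = Hd X p q (1 * (-1)⁻¹) := by
        rw [← GenM.W_mul_W_inv hH hpq one_ne_zero (neg_ne_zero.mpr one_ne_zero), hM.W_inv hpq,
          neg_neg]
      rw [e]
      exact hHdmem p q hpq _ (mul_ne_zero one_ne_zero (inv_ne_zero (neg_ne_zero.mpr one_ne_zero)))
    · -- conjugation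
      intro p q k l hpq hkl
      have hmono := hM.mono p q hpq (1 : K) one_ne_zero
      have hkl' : reflPerm p q k ≠ reflPerm p q l :=
        fun e => hkl ((reflPerm p q).injective e)
      have hc : cw p q (1 : K) k * (cw p q (1 : K) l)⁻¹ * 1 ≠ 0 :=
        mul_ne_zero (mul_ne_zero (hmono.1 k) (inv_ne_zero (hmono.1 l))) one_ne_zero
      change (QuotientGroup.mk (w p q) : ↥(Nsub X) ⧸ (Hsub X).subgroupOf (Nsub X)) *
        QuotientGroup.mk (w k l) * (QuotientGroup.mk (w p q))⁻¹ =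
        QuotientGroup.mk (w (reflPerm p q k) (reflPerm p q l))
      rw [← QuotientGroup.mk_inv, ← QuotientGroup.mk_mul, ← QuotientGroup.mk_mul]
      refine mk_eq_of_eq_mul rfl (hHdmem _ _ hkl' _ hc) ?_
      rw [Subgroup.coe_mul, Subgroup.coe_mul, Subgroup.coe_inv, hw p q hpq, hw k l hkl,
        hw _ _ hkl', ← W_eq_Hd_mul', isMono_conj_W hmono hkl]
    · -- generation
      rw [eq_top_iff]
      intro x hx
      clear hx
      obtain ⟨a, rfl⟩ := QuotientGroup.mk_surjective x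
      obtain ⟨a, ha⟩ := a
      induction ha using Subgroup.closure_induction with
      | mem g hg =>
        obtain ⟨p, q, hpq, t, ht, rfl⟩ := hg
        have e : (QuotientGroup.mk ⟨W X p q t, Subgroup.subset_closure ⟨p, q, hpq, t, ht, rfl⟩⟩ :
            ↥(Nsub X) ⧸ (Hsub X).subgroupOf (Nsub X)) = s p q := by
          refine mk_eq_of_eq_mul rfl (hHdmem p q hpq t ht) ?_
          rw [hw p q hpq, ← W_eq_Hd_mul']
        rw [e]
        exact Subgroup.subset_closure ⟨p, q, hpq, rfl⟩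
      | one => exact Subgroup.one_mem _
      | mul a b ha hb iha ihb =>
        have e : (QuotientGroup.mk ⟨a * b, Subgroup.mul_mem _ ha hb⟩ :
            ↥(Nsub X) ⧸ (Hsub X).subgroupOf (Nsub X)) =
            QuotientGroup.mk ⟨a, ha⟩ * QuotientGroup.mk ⟨b, hb⟩ := rfl
        rw [e]
        exact Subgroup.mul_mem _ iha ihb
      | inv a ha iha =>
        have e : (QuotientGroup.mk ⟨a⁻¹, Subgroup.inv_mem _ ha⟩ :
            ↥(Nsub X) ⧸ (Hsub X).subgroupOf (Nsub X)) =
            (QuotientGroup.mk ⟨a, ha⟩)⁻¹ := rfl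
        rw [e]
        exact Subgroup.inv_mem _ iha
  -- the permutation of `n` is trivial
  obtain ⟨pp, hpp, hb⟩ := rho_spec hM φ hφ ⟨n, hn⟩
  have hπle : ∀ k, rk (rho hM φ hφ ⟨n, hn⟩ k) ≤ rk k := by
    intro k
    obtain ⟨r, hr⟩ := exists_ne_zero (φ n) k
    have e1 : r = rho hM φ hφ ⟨n, hn⟩ k := by
      by_contra hne
      exact hr (col_zero φ hφ hpp hb k r hne)
    by_contra hlt
    push Not at hlt
    rw [← e1] at hlt
    exact hr (hup r k hlt)
  have hπ1 : rho hM φ hφ ⟨n, hn⟩ = 1 := perm_eq_one_of_rk_le _ hπle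
  have h1 : ρ' (QuotientGroup.mk ⟨n, hn⟩) = ρ' 1 := by
    rw [map_one]
    exact hπ1
  have h2 := hinj h1
  rw [QuotientGroup.eq_one_iff, Subgroup.mem_subgroupOf] at h2
  exact h2


/-- (GN2) `Cfsg.Agent.Helper68.StCN2.mem_Hsub_of_upper` over any field -/
theorem mem_Hsub_of_upper_gen {m : ℕ} {X : Fin m ⊕ Fin m → Fin m ⊕ Fin m → K → D}
    (hX : SpRel X) (hM : MonoData X reflPerm cw) (hH : HdMul X)
    (φ : D →* Matrix.symplecticGroup (Fin m) K)
    (hφ : ∀ p q, p ≠ q → ∀ t, (φ (X p q t)).1 = spM p q t)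
    (n : D) (hn : n ∈ Nsub X) (hup : ∀ r k, rk k < rk r → (φ n).1 r k = 0) : n ∈ Hsub X :=
  GN2_mem_Hsub_of_upper_of
    (fun s ρ h1 h2 h3 h4 h5 h6 =>
      Cfsg.Agent.Helper67.HyperN1.hyper_injective s ρ h1 h2 h3 h4 h5 h6)
    hX hM hH φ hφ n hn hup

end Cfsg.Agent.Helper1.SpAm
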